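import Groth.Agent.S4500
import Groth.Agent.Lib.Exchange.Linear
import Groth.Agent.Lib.Exchange.Main
import Groth.Agent.Lib.ResDescend36.Proj
import Groth.Agent.Lib.DerivedOX.AffinePushTilde
import Groth.Agent.Lib.ZarCoh.AffineBC
import Groth.Prelude.Def_KLin
import Mathlib.CategoryTheory.Adjunction.Additive
import Mathlib.RingTheory.LocalRing.ResidueField.Ideal
import Mathlib.RingTheory.TensorProduct.Basic

/-!
# Morphisms between the restrictions to a fibre, from a corepresenting module
-/

set_option autoImplicit false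
set_option linter.style.haveILetI false
set_option backward.isDefEq.respectTransparency false

universe u

open CategoryTheory CategoryTheory.Limits AlgebraicGeometry Opposite TopologicalSpace
open scoped TensorProduct

namespace Groth.Agent.H47.HomFibre

open Groth.Agent Groth.Agent.Lib
open ZarCoh.Exchange.Sections (G)

noncomputable section

/-- Direct image of multiplication by the pullback of a function. -/
theorem push_smulΓ {Y Z : Scheme.{u}} (g : Y ⟶ Z) (P : Y.Modules) (r : Coh.Γtop Z) :
    (Scheme.Modules.pushforward g).map (Formal.smulModΓ P (g.appTop r)) =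
      Formal.smulModΓ ((Scheme.Modules.pushforward g).obj P) r := by
  refine Scheme.Modules.hom_ext _ _ fun U => ?_
  ext m
  let x : Γ(P, g ⁻¹ᵁ U) := m
  show (Formal.smulModΓ P (g.appTop r)).app (g ⁻¹ᵁ U) x =
    (g.app U (Z.presheaf.map (homOfLE (le_top (a := U))).op r)) • x
  rw [KLin.smulModΓ_app_apply]
  exact congrArg (· • x) (ConcreteCategory.congr_hom (g.naturality (homOfLE (le_top (a := U))).op) r).symm

theorem finite_of_dual {K V : Type u} [Field K] [AddCommGroup V] [Module K V] [Module.Finite K V] :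
    Module.Finite K (V →ₗ[K] K) := inferInstance

theorem finite_of_dual_equiv {A K M : Type u} [CommRing A] [Field K] [Algebra A K]
    {N : ModuleCat.{u} A} [Module.Finite A N] [AddCommGroup M] [Module K M]
    (e : M ≃ₗ[K] (K ⊗[A] N →ₗ[K] K)) : Module.Finite K M :=
  haveI : Module.Finite K (K ⊗[A] N →ₗ[K] K) := finite_of_dual
  Module.Finite.equiv e.symm

section Corep

variable {A : Type u} [CommRing A] {X : Scheme.{u}} [X.Over (Spec (CommRingCat.of A))]
  {I F : X.Modules} {N : ModuleCat.{u} A}
  (θ : CohIII.tensorAFunctor A F ⋙ preadditiveCoyoneda.obj (op I) ≅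
    (linearCoyoneda A (ModuleCat.{u} A)).obj (op N) ⋙ forget₂ (ModuleCat.{u} A) AddCommGrpCat.{u})

/-- The corepresentation on one module. -/
def θe (M : ModuleCat.{u} A) : (I ⟶ G F M) ≃+ (N →ₗ[A] M) :=
  (θ.app M).addCommGroupIsoToAddEquiv.trans
    { toFun := fun u => u.hom
      invFun := fun v => ModuleCat.ofHom v
      left_inv := fun _ => rfl
      right_inv := fun _ => rfl
      map_add' := fun _ _ => rfl }

theorem θe_natural {M M' : ModuleCat.{u} A} (g : M ⟶ M') (ψ : I ⟶ G F M) :
    θe θ M' (ψ ≫ (CohIII.tensorAFunctor A F).map g) = g.hom.comp (θe θ M ψ) :=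
  congrArg (fun u : N ⟶ M' => u.hom) (ConcreteCategory.congr_hom (θ.hom.naturality g) ψ)

/-- The corepresentation is linear. -/
def θl (M : ModuleCat.{u} A) : (I ⟶ G F M) ≃ₗ[A] (N →ₗ[A] M) where
  __ := θe θ M
  map_smul' a ψ := by
    show θe θ M (a • ψ) = a • θe θ M ψ
    rw [KLin.smul_def, Formal.smulMod, ← KLin.comp_smulModΓ,
      ← ZarCoh.Exchange.Linear.G_map_smul F M a, θe_natural]
    rfl

/-- `Hom(I, F)` is the dual of the corepresenting module. -/
def homDual : (I ⟶ F) ≃ₗ[A] (N →ₗ[A] A) :=
  ({ toFun := fun ψ => ψ ≫ (ZarCoh.Exchange.Main.oneIso A F).inv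
     invFun := fun ψ => ψ ≫ (ZarCoh.Exchange.Main.oneIso A F).hom
     left_inv := fun ψ => by simp
     right_inv := fun ψ => by simp
     map_add' := fun ψ ψ' => Preadditive.add_comp _ _ _ _ _ _
     map_smul' := fun a ψ => Linear.smul_comp (R := A) _ _ _ _ _ _ } :
    (I ⟶ F) ≃ₗ[A] (I ⟶ G F (ModuleCat.of A A))).trans (θl θ (ModuleCat.of A A))

end Corep

section Fibre

variable {A A' : Type u} [CommRing A] [CommRing A'] [Algebra A A']
  {X X' : Scheme.{u}} [X.Over (Spec (CommRingCat.of A))]
  {g' : X' ⟶ X} {f' : X' ⟶ Spec (CommRingCat.of A')}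
  (hsq : IsPullback g' f' (X ↘ Spec (CommRingCat.of A))
    (Spec.map (CommRingCat.ofHom (algebraMap A A'))))
  (F : X.Modules) [F.IsQuasicoherent]

local notation "pX" => (X ↘ Spec (CommRingCat.of A))
local notation "σ" => Spec.map (CommRingCat.ofHom (algebraMap A A'))

variable (A A') in
/-- An algebra, as a module by restriction of scalars. -/
def restrictSelf : (ModuleCat.restrictScalars (CommRingCat.ofHom (algebraMap A A')).hom).obj
    (ModuleCat.of A' A') ≅ ModuleCat.of A A' :=
  LinearEquiv.toModuleIso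
    (X₁ := ((ModuleCat.restrictScalars (CommRingCat.ofHom (algebraMap A A')).hom).obj
      (ModuleCat.of A' A') : Type u))
    (X₂ := A')
    (m₁ := ((ModuleCat.restrictScalars (CommRingCat.ofHom (algebraMap A A')).hom).obj
      (ModuleCat.of A' A')).isModule)
    { toFun := fun x => x
      invFun := fun x => x
      map_add' := fun _ _ => rfl
      map_smul' := fun a x => (Algebra.smul_def a (R := A) (A := A') x).symm
      left_inv := fun _ => rfl
      right_inv := fun _ => rfl }

include hsq in
/-- `f^* (A')~ ⊗ F` is the direct image of the inverse image of `F`. -/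
theorem nonempty_pushPull :
    Nonempty ((Coh.push g').obj ((Scheme.Modules.pullback g').obj F) ≅
      G F (ModuleCat.of A A')) := by
  haveI : IsAffineHom g' := MorphismProperty.of_isPullback hsq.flip inferInstance
  let O' := Coh.structureModule (Spec (CommRingCat.of A'))
  haveI := TensorMod.QCohInv.isQCoh_structureModule (Spec (CommRingCat.of A'))
  have e1 : (Scheme.Modules.pushforward σ).obj O' ≅
      (tilde.functor (CommRingCat.of A)).obj (ModuleCat.of A A') :=
    (Scheme.Modules.pushforward σ).mapIso (tildeSelf (R := CommRingCat.of A')).symm ≪≫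
      (DerivedOX.AffinePush.pushTildeIso (CommRingCat.ofHom (algebraMap A A'))).app
        (ModuleCat.of A' A') ≪≫
      (tilde.functor (CommRingCat.of A)).mapIso (restrictSelf A A')
  haveI := ZarCoh.AffineBC.isIso_bc (hsq.flip) O'
  have e2 : (Scheme.Modules.pullback pX).obj ((tilde.functor (CommRingCat.of A)).obj (ModuleCat.of A A')) ≅
      Groth.Agent.H81.PushLocFree.push g' :=
    (Scheme.Modules.pullback pX).mapIso e1.symm ≪≫ asIso (ZarCoh.AffineBC.bc hsq.flip O') ≪≫
      (Scheme.Modules.pushforward g').mapIso (PicLoc.pullbackStructureIso f')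
  haveI := ResDescend36.Proj.isIso_projMap g' F
  exact ⟨(asIso (ResDescend36.Proj.projMap g' F)).symm ≪≫ TensorMod.Basic.comm _ _ ≪≫
    TensorMod.Basic.tensorIso e2.symm (Iso.refl F)⟩

variable {I : X.Modules} {N : ModuleCat.{u} A}
  (θ : CohIII.tensorAFunctor A F ⋙ preadditiveCoyoneda.obj (op I) ≅
    (linearCoyoneda A (ModuleCat.{u} A)).obj (op N) ⋙ forget₂ (ModuleCat.{u} A) AddCommGrpCat.{u})

/-- Morphisms of the restrictions as linear maps on the corepresenting module. -/
def homFibre (c : (Coh.push g').obj ((Scheme.Modules.pullback g').obj F) ≅ G F (ModuleCat.of A A')) :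
    ((Scheme.Modules.pullback g').obj I ⟶ (Scheme.Modules.pullback g').obj F) ≃+ (N →ₗ[A] A') :=
  haveI : (Scheme.Modules.pullback g').Additive :=
    (Scheme.Modules.pullbackPushforwardAdjunction g').left_adjoint_additive
  ((Scheme.Modules.pullbackPushforwardAdjunction g').homAddEquiv I _).trans
    (({ toFun := fun ψ => ψ ≫ c.hom
        invFun := fun ψ => ψ ≫ c.inv
        left_inv := fun ψ => (Category.assoc _ _ _).trans ((congrArg (ψ ≫ ·) c.hom_inv_id).trans (Category.comp_id ψ))
        right_inv := fun ψ => (Category.assoc _ _ _).trans ((congrArg (ψ ≫ ·) c.inv_hom_id).trans (Category.comp_id ψ))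
        map_add' := fun ψ ψ' => Preadditive.add_comp _ _ _ _ _ _ } :
      (I ⟶ (Coh.push g').obj ((Scheme.Modules.pullback g').obj F)) ≃+ (I ⟶ G F (ModuleCat.of A A'))).trans
      (θe θ (ModuleCat.of A A')))

include hsq in
theorem homFibre_smul
    (c : (Coh.push g').obj ((Scheme.Modules.pullback g').obj F) ≅ G F (ModuleCat.of A A'))
    (a : A) (ψ : (Scheme.Modules.pullback g').obj I ⟶ (Scheme.Modules.pullback g').obj F) :
    homFibre F θ c (ψ ≫ Formal.smulModΓ ((Scheme.Modules.pullback g').obj F)
        (Coh.toGlobal f' (algebraMap A A' a))) = a • homFibre F θ c ψ := by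
  let P := (Scheme.Modules.pullback g').obj F
  let adj := Scheme.Modules.pullbackPushforwardAdjunction g'
  have hg : Coh.toGlobal f' (algebraMap A A' a) = g'.appTop (Coh.toGlobal pX a) := by
    rw [← KLin.toGlobal_comp g' pX a, hsq.w, KLin.toGlobal_comp f' σ a]
    refine congrArg (f'.appTop) ?_
    exact ConcreteCategory.congr_hom (Scheme.ΓSpecIso_inv_naturality (CommRingCat.ofHom (algebraMap A A'))) a
  show θe θ _ ((adj.homEquiv I P) (ψ ≫ Formal.smulModΓ P (Coh.toGlobal f' (algebraMap A A' a))) ≫ c.hom) =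
    a • θe θ _ ((adj.homEquiv I P) ψ ≫ c.hom)
  rw [hg, adj.homEquiv_naturality_right, push_smulΓ, Category.assoc, ← KLin.comp_smulModΓ c.hom,
    ← ZarCoh.Exchange.Linear.G_map_smul F (ModuleCat.of A A') a, ← Category.assoc, θe_natural]
  rfl

include θ in
/-- Morphisms between the fibres as linear forms. -/
theorem nonempty_homLinear {K : Type u} [Field K] [Algebra A K]
    (hK : ∀ k : K, ∃ a s : A, algebraMap A K s ≠ 0 ∧ k * algebraMap A K s = algebraMap A K a)
    {g'' : X' ⟶ X} {f'' : X' ⟶ Spec (CommRingCat.of K)}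
    (hsq' : IsPullback g'' f'' pX (Spec.map (CommRingCat.ofHom (algebraMap A K))))
    [Module.Finite A N] :
    letI : X'.Over (Spec (CommRingCat.of K)) := ⟨f''⟩
    Nonempty (((Scheme.Modules.pullback g'').obj I ⟶ (Scheme.Modules.pullback g'').obj F) ≃ₗ[K]
      (N →ₗ[A] K)) := by
  letI : X'.Over (Spec (CommRingCat.of K)) := ⟨f''⟩
  obtain ⟨c⟩ := nonempty_pushPull hsq' F
  let E := homFibre F θ c
  have hE : ∀ (k : K) ψ, E (k • ψ) = k • E ψ := fun k ψ => by
    obtain ⟨a, s, hs, hk⟩ := hK k
    have hsm : ∀ (b : A), E (algebraMap A K b • ψ) = algebraMap A K b • E ψ := fun b => by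
      rw [KLin.smul_def, Formal.smulMod, ← KLin.comp_smulModΓ, algebraMap_smul]
      exact homFibre_smul hsq' F θ c b ψ
    have hsm' : ∀ (b : A) ξ, E (algebraMap A K b • ξ) = algebraMap A K b • E ξ := fun b ξ => by
      rw [KLin.smul_def, Formal.smulMod, ← KLin.comp_smulModΓ, algebraMap_smul]
      exact homFibre_smul hsq' F θ c b ξ
    have h1 : algebraMap A K s • E (k • ψ) = algebraMap A K s • (k • E ψ) := by
      rw [← hsm', smul_smul, smul_smul, mul_comm, hk, hsm]
    exact (isUnit_iff_ne_zero.2 hs).smul_left_cancel.1 h1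
  let EL : _ ≃ₗ[K] (N →ₗ[A] K) := { E with map_smul' := hE }
  exact ⟨EL⟩

include θ in
/-- The dimension of the morphisms between the fibres. -/
theorem finrank_hom_fibre {K : Type u} [Field K] [Algebra A K]
    (hK : ∀ k : K, ∃ a s : A, algebraMap A K s ≠ 0 ∧ k * algebraMap A K s = algebraMap A K a)
    {g'' : X' ⟶ X} {f'' : X' ⟶ Spec (CommRingCat.of K)}
    (hsq' : IsPullback g'' f'' pX (Spec.map (CommRingCat.ofHom (algebraMap A K))))
    [Module.Finite A N] :
    letI : X'.Over (Spec (CommRingCat.of K)) := ⟨f''⟩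
    Module.finrank K ((Scheme.Modules.pullback g'').obj I ⟶ (Scheme.Modules.pullback g'').obj F) =
      Module.finrank K (K ⊗[A] N) := by
  letI : X'.Over (Spec (CommRingCat.of K)) := ⟨f''⟩
  obtain ⟨EL⟩ := nonempty_homLinear F θ hK hsq'
  rw [EL.finrank_eq, (LinearMap.liftBaseChangeEquiv K).finrank_eq]
  exact Subspace.dual_finrank_eq

include θ in
/-- The morphisms between the fibres form a finite dimensional space. -/
theorem finite_hom_fibre {K : Type u} [Field K] [Algebra A K]
    (hK : ∀ k : K, ∃ a s : A, algebraMap A K s ≠ 0 ∧ k * algebraMap A K s = algebraMap A K a)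
    {g'' : X' ⟶ X} {f'' : X' ⟶ Spec (CommRingCat.of K)}
    (hsq' : IsPullback g'' f'' pX (Spec.map (CommRingCat.ofHom (algebraMap A K))))
    [Module.Finite A N] :
    letI : X'.Over (Spec (CommRingCat.of K)) := ⟨f''⟩
    Module.Finite K ((Scheme.Modules.pullback g'').obj I ⟶ (Scheme.Modules.pullback g'').obj F) := by
  letI : X'.Over (Spec (CommRingCat.of K)) := ⟨f''⟩
  obtain ⟨EL⟩ := nonempty_homLinear F θ hK hsq'
  haveI : Module.Finite K (K ⊗[A] N) := Module.Finite.base_change A K N
  exact finite_of_dual_equiv (EL.trans (LinearMap.liftBaseChangeEquiv K))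

/-- A morphism with corepresenting form nonzero in the fibre is nonzero on the fibre. -/
theorem pullback_map_ne_zero
    (c : (Coh.push g').obj ((Scheme.Modules.pullback g').obj F) ≅ G F (ModuleCat.of A A'))
    (φ : I ⟶ F) {n : N} (hn : algebraMap A A' (homDual θ φ n) ≠ 0) :
    (Scheme.Modules.pullback g').map φ ≠ 0 := by
  intro h
  let adj := Scheme.Modules.pullbackPushforwardAdjunction g'
  haveI : (Scheme.Modules.pullback g').Additive := adj.left_adjoint_additive
  let q : ModuleCat.of A A ⟶ ModuleCat.of A A' := ModuleCat.ofHom (Algebra.linearMap A A')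
  let d : F ⟶ (Coh.push g').obj ((Scheme.Modules.pullback g').obj F) :=
    (ZarCoh.Exchange.Main.oneIso A F).inv ≫ (CohIII.tensorAFunctor A F).map q ≫ c.inv
  have hd : φ ≫ d = 0 := by
    apply (adj.homAddEquiv I _).symm.injective
    rw [map_zero, Adjunction.homAddEquiv_symm_apply, adj.homEquiv_naturality_left_symm, h, zero_comp]
  have h2 : (φ ≫ (ZarCoh.Exchange.Main.oneIso A F).inv) ≫ (CohIII.tensorAFunctor A F).map q = 0 := by
    rw [← cancel_mono c.inv, zero_comp, Category.assoc, Category.assoc]
    exact hd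
  have h3 := θe_natural θ q (φ ≫ (ZarCoh.Exchange.Main.oneIso A F).inv)
  rw [h2, map_zero] at h3
  exact hn (LinearMap.congr_fun h3.symm n)

end Fibre

end

end Groth.Agent.H47.HomFibre
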